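import Groth.Agent.FibBasics.Repr
import Groth.Agent.FibBasics.Whisker

/-!
Representable 1-morphisms: composition, base change, equivalent squares, products, slices.
-/

set_option autoImplicit false
set_option backward.isDefEq.respectTransparency false
set_option backward.isDefEq.respectTransparency.types false

universe v₅ u₅ v₄ u₄ v₃ u₃ v₂ u₂ v u

open CategoryTheory CategoryTheory.Functor CategoryTheory.Limits Groth.Agent.FibBasics

namespace Groth.Agent.FibRepr2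

variable {C : Type u} [Category.{v} C]

theorem lift2 {𝒳 : BasedCategory.{v₂, u₂} C} {a b c : 𝒳.obj} {S : C} (φ : a ⟶ b) (ψ : b ⟶ c)
    (h₁ : 𝒳.p.IsHomLift (𝟙 S) φ) (h₂ : 𝒳.p.IsHomLift (𝟙 S) ψ) : 𝒳.p.IsHomLift (𝟙 S) (φ ≫ ψ) := by
  have h := (inferInstance : 𝒳.p.IsHomLift (𝟙 S ≫ 𝟙 S) (φ ≫ ψ))
  simpa using h

theorem map_lift {𝒳 : BasedCategory.{v₂, u₂} C} {𝒴 : BasedCategory.{v₃, u₃} C} (F : 𝒳 ⥤ᵇ 𝒴) {a b : 𝒳.obj}
    {R S : C} {f : R ⟶ S} {φ : a ⟶ b} (h : 𝒳.p.IsHomLift f φ) : 𝒴.p.IsHomLift f (F.map φ) :=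
  (BasedFunctor.isHomLift_iff F f φ).2 h

theorem inv_lift {𝒳 : BasedCategory.{v₂, u₂} C} {a b : 𝒳.obj} {S : C} (e : a ≅ b)
    (h : 𝒳.p.IsHomLift (𝟙 S) e.hom) : 𝒳.p.IsHomLift (𝟙 S) e.inv :=
  IsHomLift.lift_id_inv 𝒳.p S e

theorem cancel3 {D : Type u₂} [Category.{v₂} D] {A B P Q : D} (i : A ≅ B) (j : P ≅ B) (k : Q ≅ P) :
    ((i ≪≫ j.symm ≪≫ k.symm).hom ≫ k.hom) ≫ j.hom = i.hom := by
  simp

section Assoc

variable {𝒲 : BasedCategory.{v₂, u₂} C} {𝒳 : BasedCategory.{v₃, u₃} C} {𝒴 : BasedCategory.{v₄, u₄} C}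
  {𝒵 : BasedCategory.{v₅, u₅} C}

section A

variable (G : 𝒲 ⥤ᵇ 𝒵) (f : 𝒳 ⥤ᵇ 𝒴) (g : 𝒴 ⥤ᵇ 𝒵)

def assocA : FibCat.fp (FibCat.fpSnd G g) f ⥤ᵇ FibCat.fp G (BasedFunctor.comp f g) where
  toFunctor :=
    { obj := fun x => ⟨⟨x.obj.fst.obj.fst, x.obj.snd, x.obj.fst.obj.iso ≪≫ g.toFunctor.mapIso x.obj.iso⟩,
        lift2 _ _ x.obj.fst.property (map_lift g x.property)⟩
      map := fun {x y} φ => fpHom φ.hom.fst.hom.fst φ.hom.snd (by
        show G.map φ.hom.fst.hom.fst ≫ y.obj.fst.obj.iso.hom ≫ g.map y.obj.iso.hom =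
          (x.obj.fst.obj.iso.hom ≫ g.map x.obj.iso.hom) ≫ g.map (f.map φ.hom.snd)
        have h1 : G.map φ.hom.fst.hom.fst ≫ y.obj.fst.obj.iso.hom =
          x.obj.fst.obj.iso.hom ≫ g.map φ.hom.fst.hom.snd := φ.hom.fst.hom.w
        have h2 : φ.hom.fst.hom.snd ≫ y.obj.iso.hom = x.obj.iso.hom ≫ f.map φ.hom.snd := φ.hom.w
        rw [reassoc_of% h1, Category.assoc, ← g.toFunctor.map_comp, ← g.toFunctor.map_comp, h2])
      map_id := fun x => fp_hom_ext rfl rfl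
      map_comp := fun φ ψ => fp_hom_ext rfl rfl }
  w := rfl

theorem assocA_isEquivOver : FibCat.IsEquivOver (assocA G f g) := by
  have : (assocA G f g).toFunctor.Faithful := ⟨fun {x y} φ ψ h => by
    have e1 : φ.hom.fst.hom.fst = ψ.hom.fst.hom.fst := congrArg (fun k => k.hom.fst) h
    have e2 : φ.hom.snd = ψ.hom.snd := congrArg (fun k => k.hom.snd) h
    refine fp_hom_ext (fp_hom_ext e1 ?_) e2
    have w1 : φ.hom.fst.hom.snd ≫ y.obj.iso.hom = x.obj.iso.hom ≫ f.map φ.hom.snd := φ.hom.w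
    have w2 : ψ.hom.fst.hom.snd ≫ y.obj.iso.hom = x.obj.iso.hom ≫ f.map ψ.hom.snd := ψ.hom.w
    apply (cancel_mono y.obj.iso.hom).1
    rw [w1, w2, e2]⟩
  have : (assocA G f g).toFunctor.Full := ⟨fun {x y} θ => by
    let s : x.obj.fst.obj.fst ⟶ y.obj.fst.obj.fst := θ.hom.fst
    let t : x.obj.snd ⟶ y.obj.snd := θ.hom.snd
    let m : x.obj.fst.obj.snd ⟶ y.obj.fst.obj.snd := x.obj.iso.hom ≫ f.map t ≫ y.obj.iso.inv
    have h : G.map s ≫ y.obj.fst.obj.iso.hom ≫ g.map y.obj.iso.hom =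
      (x.obj.fst.obj.iso.hom ≫ g.map x.obj.iso.hom) ≫ g.map (f.map t) := θ.hom.w
    have hm : G.map s ≫ y.obj.fst.obj.iso.hom = x.obj.fst.obj.iso.hom ≫ g.map m := by
      apply (cancel_mono (g.map y.obj.iso.hom)).1
      rw [Category.assoc, h]
      simp [m]
    exact ⟨fpHom (fpHom s m hm) t (show m ≫ y.obj.iso.hom = x.obj.iso.hom ≫ f.map t by simp [m]),
      fp_hom_ext rfl rfl⟩⟩
  refine isEquivOver_of_essSurjOver _ fun η => ?_
  let q : (FibCat.fp G g).obj := ⟨⟨η.obj.fst, f.obj η.obj.snd, η.obj.iso⟩, η.property⟩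
  refine ⟨⟨⟨q, η.obj.snd, Iso.refl (f.obj η.obj.snd)⟩, IsHomLift.id (fp_snd_proj q)⟩,
    ObjectProperty.isoMk _ (CategoricalPullback.mkIso (Iso.refl _) (Iso.refl _) ?_),
    fp_lift_of_fst _ _ (IsHomLift.id rfl)⟩
  show G.map (𝟙 η.obj.fst) ≫ η.obj.iso.hom =
    (η.obj.iso.hom ≫ g.map (𝟙 (f.obj η.obj.snd))) ≫ g.map (f.map (𝟙 η.obj.snd))
  rw [G.toFunctor.map_id, f.toFunctor.map_id, g.toFunctor.map_id]
  exact (Category.id_comp _).trans ((Category.comp_id _).trans (Category.comp_id _)).symm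

end A

section B

variable (G : 𝒲 ⥤ᵇ 𝒵) (g : 𝒵 ⥤ᵇ 𝒴) (f : 𝒳 ⥤ᵇ 𝒴)

def assocB : FibCat.fp G (FibCat.fpFst g f) ⥤ᵇ FibCat.fp (BasedFunctor.comp G g) f where
  toFunctor :=
    { obj := fun x => ⟨⟨x.obj.fst, x.obj.snd.obj.snd, g.toFunctor.mapIso x.obj.iso ≪≫ x.obj.snd.obj.iso⟩, by
        have e : 𝒵.p.obj x.obj.snd.obj.fst = 𝒲.p.obj x.obj.fst := fp_snd_proj x
        exact lift2 _ _ (map_lift g x.property) (e ▸ x.obj.snd.property)⟩
      map := fun {x y} φ => fpHom φ.hom.fst φ.hom.snd.hom.snd (by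
        show g.map (G.map φ.hom.fst) ≫ g.map y.obj.iso.hom ≫ y.obj.snd.obj.iso.hom =
          (g.map x.obj.iso.hom ≫ x.obj.snd.obj.iso.hom) ≫ f.map φ.hom.snd.hom.snd
        have h1 : G.map φ.hom.fst ≫ y.obj.iso.hom = x.obj.iso.hom ≫ φ.hom.snd.hom.fst := φ.hom.w
        have h2 : g.map φ.hom.snd.hom.fst ≫ y.obj.snd.obj.iso.hom =
          x.obj.snd.obj.iso.hom ≫ f.map φ.hom.snd.hom.snd := φ.hom.snd.hom.w
        rw [← g.toFunctor.map_comp_assoc, h1, g.toFunctor.map_comp_assoc, h2, Category.assoc])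
      map_id := fun x => fp_hom_ext rfl rfl
      map_comp := fun φ ψ => fp_hom_ext rfl rfl }
  w := rfl

theorem assocB_isEquivOver : FibCat.IsEquivOver (assocB G g f) := by
  have : (assocB G g f).toFunctor.Faithful := ⟨fun {x y} φ ψ h => by
    have e1 : φ.hom.fst = ψ.hom.fst := congrArg (fun k => k.hom.fst) h
    have e2 : φ.hom.snd.hom.snd = ψ.hom.snd.hom.snd := congrArg (fun k => k.hom.snd) h
    refine fp_hom_ext e1 (fp_hom_ext ?_ e2)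
    have w1 : G.map φ.hom.fst ≫ y.obj.iso.hom = x.obj.iso.hom ≫ φ.hom.snd.hom.fst := φ.hom.w
    have w2 : G.map ψ.hom.fst ≫ y.obj.iso.hom = x.obj.iso.hom ≫ ψ.hom.snd.hom.fst := ψ.hom.w
    apply (cancel_epi x.obj.iso.hom).1
    rw [← w1, ← w2, e1]⟩
  have : (assocB G g f).toFunctor.Full := ⟨fun {x y} θ => by
    let s : x.obj.fst ⟶ y.obj.fst := θ.hom.fst
    let t : x.obj.snd.obj.snd ⟶ y.obj.snd.obj.snd := θ.hom.snd
    let m : x.obj.snd.obj.fst ⟶ y.obj.snd.obj.fst := x.obj.iso.inv ≫ G.map s ≫ y.obj.iso.hom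
    have h : g.map (G.map s) ≫ g.map y.obj.iso.hom ≫ y.obj.snd.obj.iso.hom =
      (g.map x.obj.iso.hom ≫ x.obj.snd.obj.iso.hom) ≫ f.map t := θ.hom.w
    have hm : g.map m ≫ y.obj.snd.obj.iso.hom = x.obj.snd.obj.iso.hom ≫ f.map t := by
      apply (cancel_epi (g.map x.obj.iso.hom)).1
      rw [← Category.assoc _ _ (f.map t), ← h]
      simp [m]
    exact ⟨fpHom s (fpHom m t hm) (show G.map s ≫ y.obj.iso.hom = x.obj.iso.hom ≫ m by simp [m]),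
      fp_hom_ext rfl rfl⟩⟩
  refine isEquivOver_of_essSurjOver _ fun η => ?_
  let q : (FibCat.fp g f).obj := ⟨⟨G.obj η.obj.fst, η.obj.snd, η.obj.iso⟩, by
    show 𝒴.p.IsHomLift (𝟙 (𝒵.p.obj (G.obj η.obj.fst))) η.obj.iso.hom
    rw [G.w_obj]
    exact η.property⟩
  refine ⟨⟨⟨η.obj.fst, q, Iso.refl (G.obj η.obj.fst)⟩, IsHomLift.id (G.w_obj _)⟩,
    ObjectProperty.isoMk _ (CategoricalPullback.mkIso (Iso.refl _) (Iso.refl _) ?_),
    fp_lift_of_fst _ _ (IsHomLift.id rfl)⟩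
  show g.map (G.map (𝟙 η.obj.fst)) ≫ η.obj.iso.hom =
    (g.map (𝟙 (G.obj η.obj.fst)) ≫ η.obj.iso.hom) ≫ f.map (𝟙 η.obj.snd)
  simp

end B

end Assoc

section Square

variable {𝒲 : BasedCategory.{v₂, u₂} C} {𝒳 𝒴 𝒳' 𝒴' : BasedCategory.{v₃, u₃} C}
  (f : 𝒳 ⥤ᵇ 𝒴) (f' : 𝒳' ⥤ᵇ 𝒴') (a : 𝒳' ⥤ᵇ 𝒳) (b : 𝒴' ⥤ᵇ 𝒴)
  (e : BasedFunctor.comp f' b ≅ BasedFunctor.comp a f) (G : 𝒲 ⥤ᵇ 𝒴')

abbrev eApp (x : 𝒳'.obj) : b.obj (f'.obj x) ≅ f.obj (a.obj x) :=
  ((BasedNatTrans.forgetful _ _).mapIso e).app x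

theorem eApp_nat {x y : 𝒳'.obj} (r : x ⟶ y) :
    b.map (f'.map r) ≫ (eApp f f' a b e y).hom = (eApp f f' a b e x).hom ≫ f.map (a.map r) :=
  e.hom.toNatTrans.naturality r

def squareMap : FibCat.fp G f' ⥤ᵇ FibCat.fp (BasedFunctor.comp G b) f where
  toFunctor :=
    { obj := fun x => ⟨⟨x.obj.fst, a.obj x.obj.snd,
        b.toFunctor.mapIso x.obj.iso ≪≫ eApp f f' a b e x.obj.snd⟩,
        lift2 _ _ (map_lift b x.property) (BasedNatTrans.isHomLift e.hom (fp_snd_proj x))⟩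
      map := fun {x y} φ => fpHom φ.hom.fst (a.map φ.hom.snd) (by
        show b.map (G.map φ.hom.fst) ≫ b.map y.obj.iso.hom ≫ (eApp f f' a b e y.obj.snd).hom =
          (b.map x.obj.iso.hom ≫ (eApp f f' a b e x.obj.snd).hom) ≫ f.map (a.map φ.hom.snd)
        have h1 : G.map φ.hom.fst ≫ y.obj.iso.hom = x.obj.iso.hom ≫ f'.map φ.hom.snd := φ.hom.w
        rw [← b.toFunctor.map_comp_assoc, h1, b.toFunctor.map_comp_assoc, eApp_nat, Category.assoc])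
      map_id := fun x => fp_hom_ext rfl (a.toFunctor.map_id _)
      map_comp := fun φ ψ => fp_hom_ext rfl (a.toFunctor.map_comp _ _) }
  w := rfl

theorem squareMap_isEquivOver (ha : FibCat.IsEquivOver a) (hb : FibCat.IsEquivOver b) :
    FibCat.IsEquivOver (squareMap f f' a b e G) := by
  obtain ⟨⟨_, _⟩, hes⟩ := (isEquivOver_iff a).1 ha
  obtain ⟨⟨_, _⟩, -⟩ := (isEquivOver_iff b).1 hb
  have : (squareMap f f' a b e G).toFunctor.Faithful := ⟨fun {x y} φ ψ h => fp_hom_ext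
    (congrArg (fun k => k.hom.fst) h)
    (a.toFunctor.map_injective (congrArg (fun k => k.hom.snd) h : a.map φ.hom.snd = a.map ψ.hom.snd))⟩
  have : (squareMap f f' a b e G).toFunctor.Full := ⟨fun {x y} θ => by
    let s : x.obj.fst ⟶ y.obj.fst := θ.hom.fst
    let t : a.obj x.obj.snd ⟶ a.obj y.obj.snd := θ.hom.snd
    obtain ⟨r, hr⟩ := a.toFunctor.map_surjective t
    have h : b.map (G.map s) ≫ b.map y.obj.iso.hom ≫ (eApp f f' a b e y.obj.snd).hom =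
      (b.map x.obj.iso.hom ≫ (eApp f f' a b e x.obj.snd).hom) ≫ f.map t := θ.hom.w
    refine ⟨fpHom s r (b.toFunctor.map_injective ?_), fp_hom_ext rfl hr⟩
    apply (cancel_mono (eApp f f' a b e y.obj.snd).hom).1
    rw [b.toFunctor.map_comp, Category.assoc, h, b.toFunctor.map_comp, Category.assoc, Category.assoc,
      eApp_nat, hr]⟩
  refine isEquivOver_of_essSurjOver _ fun η => ?_
  obtain ⟨x', ε, hε⟩ := hes η.obj.snd
  rw [fp_snd_proj η] at hε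
  have hx' : 𝒳'.p.obj x' = 𝒲.p.obj η.obj.fst :=
    (a.w_obj x').symm.trans (@IsHomLift.domain_eq _ _ _ _ 𝒳.p _ _ _ _ _ ε.hom hε)
  let c : b.obj (G.obj η.obj.fst) ≅ b.obj (f'.obj x') :=
    η.obj.iso ≪≫ (f.toFunctor.mapIso ε).symm ≪≫ (eApp f f' a b e x').symm
  have hc : 𝒴.p.IsHomLift (𝟙 (𝒲.p.obj η.obj.fst)) c.hom :=
    lift2 _ _ η.property (lift2 _ _ (inv_lift (f.toFunctor.mapIso ε) (map_lift f hε))
      (inv_lift (eApp f f' a b e x') (BasedNatTrans.isHomLift e.hom hx')))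
  let c' : G.obj η.obj.fst ≅ f'.obj x' := b.toFunctor.preimageIso c
  have hbc : b.map c'.hom = c.hom := b.toFunctor.map_preimage _
  refine ⟨⟨⟨η.obj.fst, x', c'⟩, (BasedFunctor.isHomLift_iff b _ _).1 (hbc ▸ hc)⟩,
    ObjectProperty.isoMk _ (CategoricalPullback.mkIso (Iso.refl _) ε ?_),
    fp_lift_of_fst _ _ (IsHomLift.id rfl)⟩
  show b.map (G.map (𝟙 η.obj.fst)) ≫ η.obj.iso.hom =
    (b.map c'.hom ≫ (eApp f f' a b e x').hom) ≫ f.map ε.hom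
  rw [hbc]
  refine Eq.trans ?_ (cancel3 η.obj.iso (f.toFunctor.mapIso ε) (eApp f f' a b e x')).symm
  rw [G.toFunctor.map_id, b.toFunctor.map_id]
  exact Category.id_comp _

variable {G₁ G₂ : 𝒲 ⥤ᵇ 𝒴} (d : G₁ ≅ G₂)

abbrev dApp (x : 𝒲.obj) : G₁.obj x ≅ G₂.obj x :=
  ((BasedNatTrans.forgetful _ _).mapIso d).app x

def fpCongrFst : FibCat.fp G₁ f ⥤ᵇ FibCat.fp G₂ f where
  toFunctor :=
    { obj := fun x => ⟨⟨x.obj.fst, x.obj.snd, (dApp d x.obj.fst).symm ≪≫ x.obj.iso⟩,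
        lift2 _ _ (inv_lift (dApp d x.obj.fst) (BasedNatTrans.isHomLift d.hom rfl)) x.property⟩
      map := fun {x y} φ => fpHom φ.hom.fst φ.hom.snd (by
        show G₂.map φ.hom.fst ≫ (dApp d y.obj.fst).inv ≫ y.obj.iso.hom =
          ((dApp d x.obj.fst).inv ≫ x.obj.iso.hom) ≫ f.map φ.hom.snd
        have h1 : G₁.map φ.hom.fst ≫ y.obj.iso.hom = x.obj.iso.hom ≫ f.map φ.hom.snd := φ.hom.w
        have h2 : G₂.map φ.hom.fst ≫ (dApp d y.obj.fst).inv = (dApp d x.obj.fst).inv ≫ G₁.map φ.hom.fst :=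
          d.inv.toNatTrans.naturality φ.hom.fst
        rw [reassoc_of% h2, h1, Category.assoc])
      map_id := fun x => fp_hom_ext rfl rfl
      map_comp := fun φ ψ => fp_hom_ext rfl rfl }
  w := rfl

theorem fpCongrFst_isEquivOver : FibCat.IsEquivOver (fpCongrFst f d) := by
  have : (fpCongrFst f d).toFunctor.Faithful := ⟨fun {x y} φ ψ h => fp_hom_ext
    (congrArg (fun k => k.hom.fst) h) (congrArg (fun k => k.hom.snd) h : φ.hom.snd = ψ.hom.snd)⟩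
  have : (fpCongrFst f d).toFunctor.Full := ⟨fun {x y} θ => by
    let s : x.obj.fst ⟶ y.obj.fst := θ.hom.fst
    let t : x.obj.snd ⟶ y.obj.snd := θ.hom.snd
    have h : G₂.map s ≫ (dApp d y.obj.fst).inv ≫ y.obj.iso.hom =
      ((dApp d x.obj.fst).inv ≫ x.obj.iso.hom) ≫ f.map t := θ.hom.w
    have h2 : G₂.map s ≫ (dApp d y.obj.fst).inv = (dApp d x.obj.fst).inv ≫ G₁.map s :=
      d.inv.toNatTrans.naturality s
    refine ⟨fpHom s t ((cancel_epi (dApp d x.obj.fst).inv).1 ?_), fp_hom_ext rfl rfl⟩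
    rw [← reassoc_of% h2, h, Category.assoc]⟩
  refine isEquivOver_of_essSurjOver _ fun η => ?_
  refine ⟨⟨⟨η.obj.fst, η.obj.snd, dApp d η.obj.fst ≪≫ η.obj.iso⟩,
      lift2 _ _ (BasedNatTrans.isHomLift d.hom rfl) η.property⟩,
    ObjectProperty.isoMk _ (CategoricalPullback.mkIso (Iso.refl _) (Iso.refl _) ?_),
    fp_lift_of_fst _ _ (IsHomLift.id rfl)⟩
  show G₂.map (𝟙 η.obj.fst) ≫ η.obj.iso.hom =
    ((dApp d η.obj.fst).inv ≫ (dApp d η.obj.fst).hom ≫ η.obj.iso.hom) ≫ f.map (𝟙 η.obj.snd)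
  rw [Iso.inv_hom_id_assoc, G₂.toFunctor.map_id, f.toFunctor.map_id]
  exact (Category.id_comp _).trans (Category.comp_id _).symm

end Square

theorem isRepresentable_comp {𝒳 𝒴 𝒵 : BasedCategory.{v, max u v} C} {f : 𝒳 ⥤ᵇ 𝒴} {g : 𝒴 ⥤ᵇ 𝒵}
    (hf : FibCat.IsRepresentable1 f) (hg : FibCat.IsRepresentable1 g) :
    FibCat.IsRepresentable1 (BasedFunctor.comp f g) := by
  intro U G
  obtain ⟨V, E, hE⟩ := hg U G
  obtain ⟨J, hJ, -⟩ := isEquivOver_symm hE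
  have h := isRepresentable_fp_of_equiv (FibCat.fpSnd G g) f hJ
    (hf V (BasedFunctor.comp J (FibCat.fpSnd G g)))
  obtain ⟨L, hL, -⟩ := isEquivOver_symm (assocA_isEquivOver G f g)
  exact isRepresentable_of_equiv hL h

theorem isRepresentable_baseChange {𝒳 𝒴 𝒵 : BasedCategory.{v, max u v} C} {f : 𝒳 ⥤ᵇ 𝒴} (g : 𝒵 ⥤ᵇ 𝒴)
    (hf : FibCat.IsRepresentable1 f) : FibCat.IsRepresentable1 (FibCat.fpFst g f) :=
  fun U G => isRepresentable_of_equiv (assocB_isEquivOver G g f) (hf U (BasedFunctor.comp G g))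

theorem isRepresentable_square_iff {𝒳 𝒴 𝒳' 𝒴' : BasedCategory.{v, max u v} C}
    (f : 𝒳 ⥤ᵇ 𝒴) (f' : 𝒳' ⥤ᵇ 𝒴') (a : 𝒳' ⥤ᵇ 𝒳) (b : 𝒴' ⥤ᵇ 𝒴)
    (ha : FibCat.IsEquivOver a) (hb : FibCat.IsEquivOver b)
    (e : BasedFunctor.comp f' b ≅ BasedFunctor.comp a f) :
    FibCat.IsRepresentable1 f ↔ FibCat.IsRepresentable1 f' := by
  refine ⟨fun h U G => isRepresentable_of_equiv (squareMap_isEquivOver f f' a b e G ha hb)
    (h U (BasedFunctor.comp G b)), fun h U G => ?_⟩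
  obtain ⟨bi, -, -, ⟨ε⟩⟩ := isEquivOver_symm hb
  let G' : FibCat.overCat U ⥤ᵇ 𝒴' := BasedFunctor.comp G bi
  obtain ⟨L, hL, -⟩ := isEquivOver_symm (squareMap_isEquivOver f f' a b e G' ha hb)
  exact isRepresentable_of_equiv (fpCongrFst_isEquivOver f (bWhiskerL G ε.symm))
    (isRepresentable_of_equiv hL (h U G'))

section Product

variable {𝒳₁ 𝒳₂ 𝒴₁ 𝒴₂ : BasedCategory.{v, max u v} C} (f₁ : 𝒳₁ ⥤ᵇ 𝒴₁) (f₂ : 𝒳₂ ⥤ᵇ 𝒴₂)
  (e : BasedFunctor.comp (BasedFunctor.comp (FibCat.fpFst (FibCat.toSelf 𝒳₁) (FibCat.toSelf 𝒳₂)) f₁) (FibCat.toSelf 𝒴₁) ≅ BasedFunctor.comp (BasedFunctor.comp (FibCat.fpSnd (FibCat.toSelf 𝒳₁) (FibCat.toSelf 𝒳₂)) f₂) (FibCat.toSelf 𝒴₂))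

theorem isRepresentable_prod (h₁ : FibCat.IsRepresentable1 f₁) (h₂ : FibCat.IsRepresentable1 f₂) :
    FibCat.IsRepresentable1 (FibCat.fpLift (BasedFunctor.comp (FibCat.fpFst (FibCat.toSelf 𝒳₁) (FibCat.toSelf 𝒳₂)) f₁) (BasedFunctor.comp (FibCat.fpSnd (FibCat.toSelf 𝒳₁) (FibCat.toSelf 𝒳₂)) f₂) e) := by
  intro U G
  set F := FibCat.fpLift (BasedFunctor.comp (FibCat.fpFst (FibCat.toSelf 𝒳₁) (FibCat.toSelf 𝒳₂)) f₁) (BasedFunctor.comp (FibCat.fpSnd (FibCat.toSelf 𝒳₁) (FibCat.toSelf 𝒳₂)) f₂) e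
  let G₁ := BasedFunctor.comp G (FibCat.fpFst (FibCat.toSelf 𝒴₁) (FibCat.toSelf 𝒴₂))
  let G₂ := BasedFunctor.comp G (FibCat.fpSnd (FibCat.toSelf 𝒴₁) (FibCat.toSelf 𝒴₂))
  let H := BasedFunctor.comp (FibCat.fpFst G₁ f₁) G₂
  have hB : FibCat.IsRepresentable (FibCat.fp H f₂) := by
    obtain ⟨V, E, hE⟩ := h₁ U G₁
    obtain ⟨J, hJ, -⟩ := isEquivOver_symm hE
    exact isRepresentable_fp_of_equiv H f₂ hJ (h₂ V (BasedFunctor.comp J H))
  let pr (x : (FibCat.fp H f₂).obj) : (FibCat.fp (FibCat.toSelf 𝒳₁) (FibCat.toSelf 𝒳₂)).obj :=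
    have h : 𝒳₁.p.obj x.obj.fst.obj.snd = 𝒳₂.p.obj x.obj.snd :=
      (fp_snd_proj x.obj.fst).trans (fp_snd_proj x).symm
    ⟨⟨x.obj.fst.obj.snd, x.obj.snd, eqToIso h⟩, self_eqToHom_lift h⟩
  let Φ : FibCat.fp H f₂ ⥤ᵇ FibCat.fp G F :=
    { toFunctor :=
        { obj := fun x => ⟨⟨x.obj.fst.obj.fst, pr x,
            ObjectProperty.isoMk _ (CategoricalPullback.mkIso x.obj.fst.obj.iso x.obj.iso (by
              have : 𝒴₁.p.IsHomLift (𝟙 ((FibCat.overCat U).p.obj x.obj.fst.obj.fst)) x.obj.fst.obj.iso.hom :=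
                x.obj.fst.property
              have : 𝒴₂.p.IsHomLift (𝟙 ((FibCat.overCat U).p.obj x.obj.fst.obj.fst)) x.obj.iso.hom :=
                x.property
              exact toSelf_sq (x := G.obj x.obj.fst.obj.fst) (y := F.obj (pr x))
                (𝟙 ((FibCat.overCat U).p.obj x.obj.fst.obj.fst)) x.obj.fst.obj.iso.hom x.obj.iso.hom))⟩,
            fp_lift_of_fst _ _ x.obj.fst.property⟩
          map := fun {x y} φ => fpHom φ.hom.fst.hom.fst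
            (fpHom φ.hom.fst.hom.snd φ.hom.snd (by
              have : 𝒳₁.p.IsHomLift ((FibCat.overCat U).p.map φ.hom.fst.hom.fst) φ.hom.fst.hom.snd :=
                FibCat.fp_isHomLift_snd _ _ φ.hom.fst
              have : 𝒳₂.p.IsHomLift ((FibCat.overCat U).p.map φ.hom.fst.hom.fst) φ.hom.snd :=
                FibCat.fp_isHomLift_snd _ _ φ
              exact toSelf_sq (x := pr x) (y := pr y) ((FibCat.overCat U).p.map φ.hom.fst.hom.fst)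
                φ.hom.fst.hom.snd φ.hom.snd))
            (fp_hom_ext φ.hom.fst.hom.w φ.hom.w)
          map_id := fun x => fp_hom_ext rfl (fp_hom_ext rfl rfl)
          map_comp := fun φ ψ => fp_hom_ext rfl (fp_hom_ext rfl rfl) }
      w := rfl }
  have : Φ.toFunctor.Faithful := ⟨fun {x y} φ ψ h => fp_hom_ext
    (fp_hom_ext (congrArg (fun k => k.hom.fst) h : φ.hom.fst.hom.fst = ψ.hom.fst.hom.fst)
      (congrArg (fun k => k.hom.snd.hom.fst) h : φ.hom.fst.hom.snd = ψ.hom.fst.hom.snd))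
    (congrArg (fun k => k.hom.snd.hom.snd) h : φ.hom.snd = ψ.hom.snd)⟩
  have : Φ.toFunctor.Full := ⟨fun {x y} θ => by
    let s : x.obj.fst.obj.fst ⟶ y.obj.fst.obj.fst := θ.hom.fst
    let t₁ : x.obj.fst.obj.snd ⟶ y.obj.fst.obj.snd := θ.hom.snd.hom.fst
    let t₂ : x.obj.snd ⟶ y.obj.snd := θ.hom.snd.hom.snd
    have w₁ : G₁.map s ≫ y.obj.fst.obj.iso.hom = x.obj.fst.obj.iso.hom ≫ f₁.map t₁ :=
      congrArg (fun k => k.hom.fst) θ.hom.w
    have w₂ : G₂.map s ≫ y.obj.iso.hom = x.obj.iso.hom ≫ f₂.map t₂ :=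
      congrArg (fun k => k.hom.snd) θ.hom.w
    exact ⟨fpHom (fpHom s t₁ w₁) t₂ w₂, fp_hom_ext rfl (fp_hom_ext rfl rfl)⟩⟩
  have hΦ : FibCat.IsEquivOver Φ := by
    refine isEquivOver_of_essSurjOver _ fun η => ?_
    let a : (G.obj η.obj.fst).obj.fst ≅ f₁.obj η.obj.snd.obj.fst :=
      (FibCat.fpFst (FibCat.toSelf 𝒴₁) (FibCat.toSelf 𝒴₂)).toFunctor.mapIso η.obj.iso
    let b : (G.obj η.obj.fst).obj.snd ≅ f₂.obj η.obj.snd.obj.snd :=
      (FibCat.fpSnd (FibCat.toSelf 𝒴₁) (FibCat.toSelf 𝒴₂)).toFunctor.mapIso η.obj.iso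
    let q : (FibCat.fp G₁ f₁).obj :=
      ⟨⟨η.obj.fst, η.obj.snd.obj.fst, a⟩, map_lift (FibCat.fpFst _ _) η.property⟩
    let x : (FibCat.fp H f₂).obj :=
      ⟨⟨q, η.obj.snd.obj.snd, b⟩, map_lift (FibCat.fpSnd _ _) η.property⟩
    let S := (FibCat.overCat U).p.obj η.obj.fst
    let i : pr x ≅ η.obj.snd := ObjectProperty.isoMk _ (CategoricalPullback.mkIso (Iso.refl _) (Iso.refl _) (by
      have : 𝒳₁.p.IsHomLift (𝟙 S) (𝟙 η.obj.snd.obj.fst) := IsHomLift.id (fp_snd_proj q)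
      have : 𝒳₂.p.IsHomLift (𝟙 S) (𝟙 η.obj.snd.obj.snd) := IsHomLift.id (fp_snd_proj x)
      exact toSelf_sq (x := pr x) (y := η.obj.snd) (𝟙 S) (𝟙 _) (𝟙 _)))
    refine ⟨x, ObjectProperty.isoMk _ (CategoricalPullback.mkIso (Iso.refl _) i ?_),
      fp_lift_of_fst _ _ (IsHomLift.id rfl)⟩
    apply fp_hom_ext
    · show G₁.map (𝟙 η.obj.fst) ≫ a.hom = a.hom ≫ f₁.map (𝟙 _)
      simp
    · show G₂.map (𝟙 η.obj.fst) ≫ b.hom = b.hom ≫ f₂.map (𝟙 _)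
      simp
  obtain ⟨L, hL, -⟩ := isEquivOver_symm hΦ
  exact isRepresentable_of_equiv hL hB

end Product

theorem over_lift_eq {U : C} {a b : (FibCat.overCat U).obj} {R S : C} (f : R ⟶ S) (φ ψ : a ⟶ b)
    [(FibCat.overCat U).p.IsHomLift f φ] [(FibCat.overCat U).p.IsHomLift f ψ] : φ = ψ :=
  Over.OverMorphism.ext ((IsHomLift.fac' (FibCat.overCat U).p f φ).trans
    (IsHomLift.fac' (FibCat.overCat U).p f ψ).symm)

theorem isRepresentable_overMap [HasPullbacks C] {X Y : C} (f : X ⟶ Y) :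
    FibCat.IsRepresentable1
      (⟨Over.map f, Over.mapForget_eq f⟩ : FibCat.overCat X ⥤ᵇ FibCat.overCat Y) := by
  intro U G
  set M : FibCat.overCat X ⥤ᵇ FibCat.overCat Y := ⟨Over.map f, Over.mapForget_eq f⟩
  refine isRepresentable_iff.2 ⟨fp_isFibGrpd (isFibGrpd_overForget U) (isFibGrpd_overForget X)
    (isFibGrpd_overForget Y), ?_⟩
  let g : U ⟶ Y := eqToHom (G.w_obj (one U)).symm ≫ hm (G.obj (one U))
  have hg (a : (FibCat.overCat U).obj) : hm (G.obj a) = eqToHom (G.w_obj a) ≫ hm a ≫ g := by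
    rw [← hm_w (G.map (toOne a)), map_base G (toOne a)]
    simp only [g, Category.assoc]
    rfl
  let P := pullback g f
  let a : (FibCat.overCat U).obj := (Over.mk (pullback.fst g f : P ⟶ U) : Over U)
  let b : (FibCat.overCat X).obj := (Over.mk (pullback.snd g f : P ⟶ X) : Over X)
  have hGa : (G.obj a).left = P := G.w_obj a
  let i : G.obj a ≅ M.obj b := Over.isoMk (eqToIso hGa) (by
    show eqToHom hGa ≫ pullback.snd g f ≫ f = hm (G.obj a)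
    rw [hg a, ← pullback.condition]
    try rfl)
  let ξ : (FibCat.fp G M).obj := ⟨⟨a, b, i⟩, IsHomLift.of_fac _ _ _ hGa rfl (by
    show 𝟙 P = eqToHom hGa.symm ≫ eqToHom hGa ≫ eqToHom rfl
    simp)⟩
  refine ⟨ξ, fun ρ => ?_⟩
  let u := ρ.obj.fst
  let x := ρ.obj.snd
  let T : C := (FibCat.overCat U).p.obj u
  have hx : (FibCat.overCat X).p.obj x = T := fp_snd_proj ρ
  have hρ : (FibCat.overCat Y).p.IsHomLift (𝟙 T) ρ.obj.iso.hom := ρ.property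
  have hi : (ρ.obj.iso.hom.left : (G.obj u).left ⟶ x.left) = eqToHom (G.w_obj u) ≫ eqToHom hx.symm := by
    have := IsHomLift.fac' (FibCat.overCat Y).p (𝟙 T) ρ.obj.iso.hom
    rw [Category.id_comp] at this
    exact this
  have hxy : hm u ≫ g = (eqToHom hx.symm ≫ hm x) ≫ f := by
    rw [← cancel_epi (eqToHom (G.w_obj u)), ← hg u]
    have hw : hm (G.obj u) = (ρ.obj.iso.hom.left : (G.obj u).left ⟶ x.left) ≫ hm x ≫ f :=
      (Over.w ρ.obj.iso.hom).symm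
    rw [hw, hi]
    simp only [Category.assoc]
    try rfl
  let l : T ⟶ P := pullback.lift (hm u) (eqToHom hx.symm ≫ hm x) hxy
  let s : u ⟶ a := (Over.homMk l (pullback.lift_fst _ _ _) : (u : Over U) ⟶ Over.mk (pullback.fst g f))
  let t : x ⟶ b := (Over.homMk (eqToHom hx ≫ l) (by
    show (eqToHom hx ≫ l) ≫ pullback.snd g f = hm x
    rw [Category.assoc, pullback.lift_snd]
    simp) : (x : Over X) ⟶ Over.mk (pullback.snd g f))
  have : (FibCat.overCat U).p.IsHomLift l s := IsHomLift.map (FibCat.overCat U).p s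
  have : (FibCat.overCat X).p.IsHomLift l t :=
    IsHomLift.of_fac (FibCat.overCat X).p l t hx rfl (by
      show l = eqToHom hx.symm ≫ (eqToHom hx ≫ l) ≫ eqToHom rfl
      simp)
  have : (FibCat.overCat Y).p.IsHomLift (𝟙 P) i.hom := ξ.property
  have hw : G.map s ≫ ξ.obj.iso.hom = ρ.obj.iso.hom ≫ M.map t := by
    have h1 : (FibCat.overCat Y).p.IsHomLift l (G.map s ≫ i.hom) := by
      have h := (inferInstance : (FibCat.overCat Y).p.IsHomLift (l ≫ 𝟙 P) (G.map s ≫ i.hom))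
      simpa using h
    have h2 : (FibCat.overCat Y).p.IsHomLift l (ρ.obj.iso.hom ≫ M.map t) := by
      have hMt : (FibCat.overCat Y).p.IsHomLift l (M.map t) := map_lift M inferInstance
      have h := @IsHomLift.comp _ _ _ _ (FibCat.overCat Y).p _ _ _ _ _ _ (𝟙 T) l ρ.obj.iso.hom (M.map t) hρ hMt
      simpa using h
    exact over_lift_eq l _ _
  refine ⟨{ default := fpHom s t hw, uniq := fun φ => ?_ }⟩
  let φ₁ : T ⟶ P := (FibCat.overCat U).p.map φ.hom.fst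
  have hl : (FibCat.overCat X).p.IsHomLift φ₁ φ.hom.snd := FibCat.fp_isHomLift_snd _ _ φ
  have e1 : φ₁ ≫ pullback.fst g f = hm u := hm_w φ.hom.fst
  let φ₂ : (FibCat.overCat X).p.obj x ⟶ P := (FibCat.overCat X).p.map φ.hom.snd
  have e3 : φ₂ = eqToHom hx ≫ φ₁ := by
    show (FibCat.overCat X).p.map φ.hom.snd = _
    rw [IsHomLift.fac' (FibCat.overCat X).p φ₁ φ.hom.snd]
    exact congrArg (eqToHom hx ≫ ·) (Category.comp_id φ₁)
  have e2 : φ₂ ≫ pullback.snd g f = hm x := hm_w φ.hom.snd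
  have key : φ₁ = l := by
    apply pullback.hom_ext
    · rw [e1, pullback.lift_fst]
    · rw [pullback.lift_snd, ← e2, e3]
      simp
  exact fp_hom_ext (Over.OverMorphism.ext key)
    (Over.OverMorphism.ext (e3.trans (congrArg (eqToHom hx ≫ ·) key)))

end Groth.Agent.FibRepr2
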